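import Cfsg.Agent.Lib.SLFiveTwo.Points

/-!
# Recognition of `SL(5,2)`

The pairs of points cut out by the groups `E` are the lines of a projective space of order two.
-/

set_option autoImplicit false
set_option maxRecDepth 4000
set_option linter.style.haveILetI false
set_option linter.unusedSectionVars false

namespace Cfsg.Agent.SLFiveTwo

open Subgroup MulAction

variable {G : Type*} [Group G] [Finite G] {E : Subgroup G} (D : Data E)

/-- The group of a point. -/
noncomputable def El (p : Pt E) : Subgroup G := E.map (MulAut.conj p.out).toMonoidHom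

theorem mem_El_mk {g a : G} : a ∈ El (g : Pt E) ↔ g⁻¹ * a * g ∈ E := by
  rw [El, mem_map_equiv, MulAut.conj_symm_apply]
  obtain ⟨⟨n, hn⟩, e⟩ : ∃ n : ↥(normalizer (E : Set G)), ((g : Pt E)).out = g * n :=
    QuotientGroup.mk_out_eq_mul _ g
  rw [e]
  constructor
  · intro h
    have := conj_mem hn h
    simpa [mul_assoc] using this
  · intro h
    have := conj_mem (inv_mem hn) h
    simpa [mul_assoc] using this

theorem mem_El_smul {p : Pt E} {a x : G} (h : a ∈ El p) : x * a * x⁻¹ ∈ El (x • p) := by
  obtain ⟨g, rfl⟩ := QuotientGroup.mk_surjective p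
  rw [mem_El_mk] at h
  show x * a * x⁻¹ ∈ El ((x * g : G) : Pt E)
  rw [mem_El_mk]
  simpa [mul_assoc] using h

/-- An element moving the base point to `p`, and the translation of the local facts. -/
theorem exists_base (p : Pt E) : ∃ g : G, g • p0 E = p ∧ ∀ a : G, a ∈ El p ↔ g⁻¹ * a * g ∈ E := by
  obtain ⟨g, rfl⟩ := QuotientGroup.mk_surjective p
  exact ⟨g, smul_p0 g, fun a => mem_El_mk⟩

theorem El_fix {p : Pt E} {a : G} (h : a ∈ El p) : a • p = p := by
  obtain ⟨g, rfl, hg⟩ := exists_base p
  have := smul_base ((hg a).1 h)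
  rw [mul_smul, mul_smul] at this
  rw [← smul_left_cancel_iff g⁻¹]
  simpa using this

include D in
theorem El_comm {p : Pt E} {a b : G} (ha : a ∈ El p) (hb : b ∈ El p) : a * b = b * a := by
  obtain ⟨g, -, hg⟩ := exists_base p
  have := comm D ((hg a).1 ha) ((hg b).1 hb)
  calc a * b = g * ((g⁻¹ * a * g) * (g⁻¹ * b * g)) * g⁻¹ := by group
    _ = _ := by rw [this]; group

include D in
theorem El_sq {p : Pt E} {a : G} (ha : a ∈ El p) : a * a = 1 := by
  obtain ⟨g, -, hg⟩ := exists_base p
  have := D.sq _ ((hg a).1 ha)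
  calc a * a = g * ((g⁻¹ * a * g) * (g⁻¹ * a * g)) * g⁻¹ := by group
    _ = 1 := by rw [this]; group

include D in
theorem El_move {p q : Pt E} (h : q ≠ p) : ∃ a ∈ El p, a • q ≠ q := by
  obtain ⟨g, rfl, hg⟩ := exists_base p
  obtain ⟨a, ha, hm⟩ := exists_move D (q := g⁻¹ • q) fun e => h (inv_smul_eq_iff.1 e)
  refine ⟨g * a * g⁻¹, (hg _).2 (by simpa [mul_assoc] using ha), fun e => hm ?_⟩
  rw [← smul_left_cancel_iff g, smul_inv_smul, ← mul_smul, ← mul_smul]
  exact e

include D in
theorem El_mul_fix {p q : Pt E} (h : q ≠ p) {a b : G} (ha : a ∈ El p) (hb : b ∈ El p) (ha' : a • q ≠ q)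
    (hb' : b • q ≠ q) : (a * b) • q = q := by
  obtain ⟨g, rfl, hg⟩ := exists_base p
  have key : ∀ c : G, (g⁻¹ * c * g) • g⁻¹ • q = g⁻¹ • q ↔ c • q = q := fun c => by
    rw [← mul_smul, mul_inv_cancel_right, mul_smul, smul_left_cancel_iff]
  have := mul_fix D (q := g⁻¹ • q) (fun e => h (inv_smul_eq_iff.1 e)) ((hg a).1 ha) ((hg b).1 hb)
    (fun e => ha' ((key a).1 e)) (fun e => hb' ((key b).1 e))
  rw [show g⁻¹ * a * g * (g⁻¹ * b * g) = g⁻¹ * (a * b) * g by group] at this
  exact (key _).1 this

include D in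
theorem El_same {p q r : Pt E} (hq : q ≠ p) (hr : r ≠ p) (h : ∀ a ∈ El p, a • q = q → a • r = r) :
    r = q ∨ ∀ a ∈ El p, a • q ≠ q → a • q = r := by
  obtain ⟨g, rfl, hg⟩ := exists_base p
  have key : ∀ (c : G) (x y : Pt E), (g⁻¹ * c * g) • g⁻¹ • x = g⁻¹ • y ↔ c • x = y := fun c x y => by
    rw [← mul_smul, mul_inv_cancel_right, mul_smul, smul_left_cancel_iff]
  rcases same_pair D (q := g⁻¹ • q) (r := g⁻¹ • r) (fun e => hq (inv_smul_eq_iff.1 e))
      (fun e => hr (inv_smul_eq_iff.1 e)) (fun a ha hfix => by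
        have e : a = g⁻¹ * (g * a * g⁻¹) * g := by group
        rw [e] at hfix ⊢
        exact (key _ _ _).2 (h _ ((hg _).2 (e ▸ ha)) ((key _ _ _).1 hfix))) with e | e
  · exact Or.inl (smul_left_cancel _ e)
  · exact Or.inr fun a ha ha' => (key a q r).1 (e _ ((hg a).1 ha) fun e' => ha' ((key a q q).1 e'))

open scoped Classical in
/-- The third point of a line. -/
noncomputable def third (p q : Pt E) : Pt E :=
  if h : ∃ a ∈ El p, a • q ≠ q then h.choose • q else p

include D in
theorem third_eq {p q : Pt E} (h : q ≠ p) {a : G} (ha : a ∈ El p) (hm : a • q ≠ q) : third p q = a • q := by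
  have hex : ∃ b ∈ El p, b • q ≠ q := ⟨a, ha, hm⟩
  rw [third, dif_pos hex]
  obtain ⟨hb, hb'⟩ := hex.choose_spec
  set b := hex.choose
  have := El_mul_fix D h ha hb hm hb'
  conv_rhs => rw [← this]
  rw [← mul_smul, ← mul_assoc, El_sq D ha, one_mul]

include D in
theorem third_ne {p q : Pt E} (h : q ≠ p) : third p q ≠ p ∧ third p q ≠ q := by
  obtain ⟨a, ha, hm⟩ := El_move D h
  rw [third_eq D h ha hm]
  exact ⟨fun e => h (MulAction.injective a (e.trans (El_fix ha).symm)), hm⟩

include D in
theorem third_third {p q : Pt E} (h : q ≠ p) : third p (third p q) = q := by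
  obtain ⟨a, ha, hm⟩ := El_move D h
  rw [third_eq D h ha hm]
  have e : a • a • q = q := by rw [← mul_smul, El_sq D ha, one_smul]
  rw [third_eq D (fun e1 => h (MulAction.injective a (e1.trans (El_fix ha).symm))) ha (by rw [e]; exact hm.symm), e]

include D in
theorem third_smul {p q : Pt E} (h : q ≠ p) (x : G) : x • third p q = third (x • p) (x • q) := by
  obtain ⟨a, ha, hm⟩ := El_move D h
  have e : (x * a * x⁻¹) • x • q = x • a • q := by rw [← mul_smul, inv_mul_cancel_right, mul_smul]
  rw [third_eq D h ha hm, third_eq D (fun e1 => h (MulAction.injective x e1)) (mem_El_smul ha)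
    (by rw [e]; exact fun e1 => hm (MulAction.injective x e1)), e]

include D in
theorem third_fix {p q : Pt E} (h : q ≠ p) {x : G} (hp : x • p = p) (hq : x • q = q) :
    x • third p q = third p q := by
  rw [third_smul D h, hp, hq]

include D in
theorem third_comm {p q : Pt E} (h : q ≠ p) : third q p = third p q := by
  obtain ⟨h1, h2⟩ := third_ne D h.symm
  rcases El_same D h h2 (fun a ha hfix => third_fix D h.symm hfix (El_fix ha)) with e | e
  · exact absurd e h1
  · obtain ⟨a, ha, hm⟩ := El_move D h
    rw [third_eq D h ha hm, e a ha hm]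

include D in
/-- The Veblen configuration. -/
theorem veblen {p q₁ q₂ : Pt E} (h1 : q₁ ≠ p) (h2 : q₂ ≠ p) (h12 : q₂ ≠ q₁) (h3 : q₂ ≠ third p q₁) :
    third (third p q₁) (third p q₂) = third q₁ q₂ := by
  have hb : ∀ {x y : Pt E}, x ≠ p → y ≠ p → y ≠ x → y ≠ third p x → ∃ b ∈ El p, b • y = y ∧ b • x ≠ x := by
    intro x y hx hy hxy hyx
    by_contra hcon
    push Not at hcon
    rcases El_same D hy hx hcon with e | e
    · exact hxy e.symm
    · obtain ⟨a, ha, hm⟩ := El_move D hy
      refine hyx ?_
      rw [← e a ha hm, third_eq D (by rw [e a ha hm]; exact hx) ha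
        (by rw [← mul_smul, El_sq D ha, one_smul]; exact hm.symm), ← mul_smul, El_sq D ha, one_smul]
  have h3' : q₁ ≠ third p q₂ := fun e => h3 (by rw [e, third_third D h2])
  obtain ⟨b, hb', hb2, hb1⟩ := hb h1 h2 h12 h3
  obtain ⟨c, hc', hc1, hc2⟩ := hb h2 h1 h12.symm h3'
  set q₃ := third q₁ q₂ with hq3
  have hne := third_ne D h12
  have hq3p : q₃ ≠ p := fun e => h3 (by
    have h : third q₁ p = q₂ := by rw [← e, hq3, third_third D h12]
    rw [← third_comm D h1, h])
  have hb3 : b • q₃ ≠ q₃ := fun e => hb1 (by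
    have h : third q₂ q₃ = q₁ := by
      rw [hq3, ← third_comm D h12, third_third D h12.symm]
    rw [← h]
    exact third_fix D hne.2 hb2 e)
  have hc3 : c • q₃ ≠ q₃ := fun e => hc2 (by
    have h : third q₁ q₃ = q₂ := by rw [hq3, third_third D h12]
    rw [← h]
    exact third_fix D hne.1 hc1 e)
  have hd1 : (b * c) • q₁ ≠ q₁ := by rwa [mul_smul, hc1]
  have hd2 : (b * c) • q₂ ≠ q₂ := by rwa [El_comm D hb' hc', mul_smul, hb2]
  have hd3 : (b * c) • q₃ = q₃ := El_mul_fix D hq3p hb' hc' hb3 hc3
  rw [third_eq D h1 (mul_mem hb' hc') hd1, third_eq D h2 (mul_mem hb' hc') hd2, ← third_smul D h12, hd3]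

/-- The vectors. -/
def Vec (E : Subgroup G) : Type _ := Option (Pt E)

open scoped Classical in
/-- The sum. -/
noncomputable def vadd' : Option (Pt E) → Option (Pt E) → Option (Pt E)
  | none, v => v
  | some p, none => some p
  | some p, some q => if q = p then none else some (third p q)

include D in
theorem vadd'_comm (v w : Option (Pt E)) : vadd' v w = vadd' w v := by
  rcases v with _ | p <;> rcases w with _ | q <;> simp only [vadd']
  by_cases h : q = p
  · rw [if_pos h, if_pos h.symm]
  · rw [if_neg h, if_neg (Ne.symm h), third_comm D h]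

include D in
theorem vadd'_assoc (u v w : Option (Pt E)) : vadd' (vadd' u v) w = vadd' u (vadd' v w) := by
  rcases u with _ | p
  · simp only [vadd']
  rcases v with _ | q
  · rcases w with _ | r <;> simp only [vadd']
  rcases w with _ | r
  · by_cases h : q = p
    · simp only [vadd', if_pos h]
    · simp only [vadd', if_neg h]
  by_cases hqp : q = p
  · subst hqp
    by_cases hrq : r = q
    · subst hrq; simp [vadd']
    · simp only [vadd', if_neg hrq, if_true]
      rw [if_neg (third_ne D hrq).1, third_third D hrq]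
  by_cases hrq : r = q
  · subst hrq
    simp only [vadd', if_neg hqp, if_true]
    rw [if_neg (third_ne D hqp).2.symm, ← third_comm D hqp, ← third_comm D (third_ne D (Ne.symm hqp)).1.symm,
      third_third D (Ne.symm hqp)]
  simp only [vadd', if_neg hqp, if_neg hrq]
  by_cases hx : r = third p q
  · subst hx
    have hne := (third_ne D hqp).2
    rw [if_pos rfl, ← third_comm D hqp, third_third D (Ne.symm hqp), if_pos rfl]
  rw [if_neg hx]
  have hs : third q r ≠ p := fun e => hx (by rw [← third_comm D hqp, ← e, third_third D hrq])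
  rw [if_neg hs]
  congr 1
  have hqx : third q p ≠ q := (third_ne D (Ne.symm hqp)).1
  have hv := veblen D (p := q) (q₁ := third q p) (q₂ := r) hqx hrq (by rwa [third_comm D hqp])
  by_cases hrp : r = p
  · subst hrp
    rw [third_comm D hqp, third_comm D (third_ne D hqp).1, third_third D hqp]
  have h4 := hv (by rwa [third_third D (Ne.symm hqp)])
  rw [third_third D (Ne.symm hqp), third_comm D hqp] at h4
  exact h4.symm

include D in
theorem vadd'_self (v : Option (Pt E)) : vadd' v v = none := by
  rcases v with _ | p <;> simp [vadd']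

noncomputable instance : Add (Vec E) := ⟨vadd' (E := E)⟩

instance : Zero (Vec E) := ⟨(none : Option (Pt E))⟩

instance : Neg (Vec E) := ⟨fun v => v⟩

include D in
/-- The additive group. -/
noncomputable abbrev vecGroup : AddCommGroup (Vec E) where
  add := vadd' (E := E)
  zero := (none : Option (Pt E))
  neg v := v
  nsmul := nsmulRec
  zsmul := zsmulRec
  add_assoc := vadd'_assoc D
  zero_add v := by rcases v with _ | p <;> rfl
  add_zero v := by rcases v with _ | p <;> rfl
  neg_add_cancel v := vadd'_self D v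
  add_comm := vadd'_comm D

/-- The action on the vectors. -/
def act (g : G) : Vec E → Vec E := Option.map (fun p : Pt E => g • p)

include D in
theorem act_add (g : G) (v w : Option (Pt E)) : act g (vadd' v w) = vadd' (act g v) (act g w) := by
  classical
  rcases v with _ | p
  · rcases w with _ | q <;> rfl
  rcases w with _ | q
  · rfl
  show Option.map _ (if q = p then none else some (third p q)) =
    if g • q = g • p then none else some (third (g • p) (g • q))
  by_cases h : q = p
  · rw [if_pos h, if_pos (congrArg (g • ·) h)]; rfl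
  · rw [if_neg h, if_neg (fun e => h (MulAction.injective g e)), Option.map_some, third_smul D h]

theorem det_one {n : Type*} [DecidableEq n] [Fintype n] {M : Matrix n n (ZMod 2)} (h : IsUnit M) : M.det = 1 := by
  have key : ∀ u : (ZMod 2)ˣ, u = 1 := by decide
  obtain ⟨u, hu⟩ := (Matrix.isUnit_iff_isUnit_det _).1 h
  rw [← hu, key u, Units.val_one]

theorem card_SL_eq_GL (n : Type*) [DecidableEq n] [Fintype n] :
    Nat.card (Matrix.SpecialLinearGroup n (ZMod 2)) = Nat.card (GL n (ZMod 2)) :=
  Nat.card_congr (Equiv.ofBijective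
    (fun g : Matrix.SpecialLinearGroup n (ZMod 2) => (Matrix.SpecialLinearGroup.toGL g : GL n (ZMod 2)))
    ⟨fun a b h => Subtype.ext (congrArg (fun x : GL n (ZMod 2) => (x : Matrix n n (ZMod 2))) h),
      fun x => ⟨⟨x, det_one x.isUnit⟩, Units.ext rfl⟩⟩)

theorem card_SL : Nat.card (Matrix.SpecialLinearGroup (Fin 5) (ZMod 2)) = 9999360 := by
  rw [card_SL_eq_GL, Matrix.card_GL_field, Fintype.card_eq_nat_card, Nat.card_zmod]
  norm_num [Fin.prod_univ_five]

/-- A homomorphism to the matrices gives one to the special linear group. -/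
noncomputable def toSL {G : Type*} [Group G] {n : Type*} [DecidableEq n] [Fintype n]
    (m : G →* Matrix n n (ZMod 2)) : G →* Matrix.SpecialLinearGroup n (ZMod 2) where
  toFun g := ⟨m g, det_one ((Group.isUnit g).map m)⟩
  map_one' := Subtype.ext (by simp)
  map_mul' g h := Subtype.ext (map_mul m g h)

include D in
/-- The recognition theorem. -/
theorem nonempty_equiv (hG : Nat.card G = 9999360) :
    Nonempty (G ≃* Matrix.SpecialLinearGroup (Fin 5) (ZMod 2)) := by
  classical
  letI : AddCommGroup (Vec E) := vecGroup D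
  letI : Module (ZMod 2) (Vec E) := AddCommGroup.zmodModule (n := 2) fun v => by
    rw [two_nsmul]; exact vadd'_self D v
  haveI : Finite (Vec E) := inferInstanceAs (Finite (Option (Pt E)))
  have hcard : Nat.card (Vec E) = 32 := by
    show Nat.card (Option (Pt E)) = 32
    rw [Finite.card_option, card_pt D]
  have hrank : Module.finrank (ZMod 2) (Vec E) = 5 := by
    have h1 := Module.natCard_eq_pow_finrank (K := ZMod 2) (V := Vec E)
    rw [hcard, Nat.card_zmod] at h1
    exact (Nat.pow_right_injective le_rfl (show (2 : ℕ) ^ 5 = 2 ^ Module.finrank (ZMod 2) (Vec E) from h1)).symm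
  let b : Module.Basis (Fin 5) (ZMod 2) (Vec E) := Module.finBasisOfFinrankEq (ZMod 2) (Vec E) hrank
  let L : G → (Vec E →ₗ[ZMod 2] Vec E) := fun g =>
    AddMonoidHom.toZModLinearMap 2 (AddMonoidHom.mk' (act g) (act_add D g))
  have hL : ∀ g (v : Vec E), L g v = act g v := fun g v => rfl
  have hmul : ∀ g h : G, L (g * h) = L g * L h := fun g h => LinearMap.ext fun v => by
    show act (g * h) v = act g (act h v)
    rcases v with _ | p
    · rfl
    · exact congrArg some (mul_smul g h p)
  have hone : L 1 = 1 := LinearMap.ext fun v => by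
    show act 1 v = v
    rcases v with _ | p
    · rfl
    · exact congrArg some (one_smul G p)
  let m : G →* Matrix (Fin 5) (Fin 5) (ZMod 2) :=
    { toFun := fun g => LinearMap.toMatrix b b (L g)
      map_one' := by rw [hone, LinearMap.toMatrix_one]
      map_mul' := fun g h => by rw [hmul, LinearMap.toMatrix_mul] }
  let f : G →* Matrix.SpecialLinearGroup (Fin 5) (ZMod 2) := toSL m
  have hker : Function.Injective f := by
    rw [injective_iff_map_eq_one]
    intro x hx
    have hLx : L x = 1 := (LinearMap.toMatrix b b).injective (by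
      rw [LinearMap.toMatrix_one]; exact (congrArg Subtype.val hx).trans Matrix.SpecialLinearGroup.coe_one)
    have hfix : ∀ q : Pt E, x • q = q := fun q =>
      Option.some_injective _ (LinearMap.congr_fun hLx (some q : Option (Pt E)))
    have htriv : ∀ y ∈ E, (∀ q : Pt E, y • q = q) → y = 1 := by
      intro y hy hyf
      by_contra hne
      have h1 := fixCount_rest D hy hne
      rw [fixCount, show {q | q ∈ rest E ∧ y • q = q} = rest E from
        Set.ext fun q => ⟨fun h => h.1, fun h => ⟨h, hyf q⟩⟩, card_rest D] at h1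
      omega
    have hxN : x ∈ normalizer (E : Set G) := smul_p0_eq.1 (hfix _)
    have hxE : x ∈ E := D.cen (mem_centralizer_iff.2 fun a ha => by
      have h1 := htriv _ (mul_mem (conj_mem hxN ha) (inv_mem ha)) fun q => by
        rw [mul_smul, mul_smul, mul_smul, inv_smul_eq_iff.2 (hfix (a⁻¹ • q)).symm, smul_inv_smul, hfix]
      exact (mul_inv_eq_iff_eq_mul.1 (mul_inv_eq_one.1 h1)).symm)
    exact htriv x hxE hfix
  exact ⟨MulEquiv.ofBijective f ((Nat.bijective_iff_injective_and_card f).2 ⟨hker, by rw [hG, card_SL]⟩)⟩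

omit [Finite G] in
/-- The data from one involution of `E`. -/
theorem Data.of_one (hcard : Nat.card E = 16) (hsq : ∀ a ∈ E, a * a = 1) (hcen : centralizer (E : Set G) ≤ E)
    {z : G} (hz : z ∈ E) (hz1 : z ≠ 1) (hC : centralizer ({z} : Set G) ≤ normalizer (E : Set G))
    (htr : ∀ a ∈ E, a ≠ 1 → ∃ n ∈ normalizer (E : Set G), n * z * n⁻¹ = a)
    (hidx : (normalizer (E : Set G)).index = 31) : Data E where
  card := hcard
  sq := hsq
  cen := hcen
  idx := hidx
  trans := fun a ha ha1 b hb hb1 => by
    obtain ⟨m, hm, rfl⟩ := htr a ha ha1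
    obtain ⟨n, hn, rfl⟩ := htr b hb hb1
    exact ⟨n * m⁻¹, mul_mem hn (inv_mem hm), by group⟩
  big := fun a ha ha1 c hc => by
    obtain ⟨m, hm, rfl⟩ := htr a ha ha1
    have h1 : m⁻¹ * c * m ∈ centralizer ({z} : Set G) := mem_centralizer_singleton_iff.2 (by
      have h2 := mem_centralizer_singleton_iff.1 hc
      calc m⁻¹ * c * m * z = m⁻¹ * (c * (m * z * m⁻¹)) * m := by group
        _ = _ := by rw [h2]; group)
    have h3 := mul_mem (mul_mem hm (hC h1)) (inv_mem hm)
    rwa [show m * (m⁻¹ * c * m) * m⁻¹ = c by group] at h3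

end Cfsg.Agent.SLFiveTwo
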