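import Mathlib

/-!
# The thirty-one points of a group with the local data of `SL(5,2)`

`E` is elementary abelian of order sixteen, its normaliser `N` has index 31, is transitive on the involutions of
`E` and contains their centralisers. On the cosets of `N` every involution of `E` fixes fifteen points, `E` fixes
only one, and the other orbits of `E` have length two, one pair for each hyperplane of `E`.
-/

set_option autoImplicit false
set_option linter.style.haveILetI false
set_option linter.unusedSectionVars false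

namespace Cfsg.Agent.SLFiveTwo

open Subgroup MulAction

variable {G : Type*} [Group G]

/-- The local data. -/
structure Data (E : Subgroup G) : Prop where
  card : Nat.card E = 16
  sq : ∀ a ∈ E, a * a = 1
  cen : centralizer (E : Set G) ≤ E
  trans : ∀ a ∈ E, a ≠ 1 → ∀ b ∈ E, b ≠ 1 → ∃ n ∈ normalizer (E : Set G), n * a * n⁻¹ = b
  big : ∀ a ∈ E, a ≠ 1 → centralizer ({a} : Set G) ≤ normalizer (E : Set G)
  idx : (normalizer (E : Set G)).index = 31

/-- The points. -/
abbrev Pt (E : Subgroup G) := G ⧸ normalizer (E : Set G)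

/-- The base point. -/
abbrev p0 (E : Subgroup G) : Pt E := ((1 : G) : Pt E)

variable {E : Subgroup G}

theorem smul_p0 (g : G) : g • p0 E = (g : Pt E) := by
  show ((g * 1 : G) : Pt E) = _
  rw [mul_one]

theorem smul_p0_eq {g : G} : g • p0 E = p0 E ↔ g ∈ normalizer (E : Set G) := by
  rw [smul_p0, p0, QuotientGroup.eq, mul_one, inv_mem_iff]

theorem smul_mk_eq {x g : G} : x • (g : Pt E) = g ↔ g⁻¹ * x * g ∈ normalizer (E : Set G) := by
  rw [← smul_p0 g, ← smul_p0_eq]
  constructor
  · intro h; rw [mul_smul, mul_smul, h, ← mul_smul, inv_mul_cancel, one_smul]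
  · intro h
    conv_rhs => rw [← h]
    rw [← mul_smul, ← mul_smul]
    congr 1
    group

theorem conj_mem {n a : G} (hn : n ∈ normalizer (E : Set G)) (ha : a ∈ E) : n * a * n⁻¹ ∈ E :=
  (mem_normalizer_iff.1 hn a).1 ha

variable [Finite G] (D : Data E)

include D in
theorem card_pt : Nat.card (Pt E) = 31 := D.idx

include D in
theorem comm {a b : G} (ha : a ∈ E) (hb : b ∈ E) : a * b = b * a := by
  calc a * b = (a * b)⁻¹ := (inv_eq_of_mul_eq_one_right (D.sq _ (mul_mem ha hb))).symm
    _ = b⁻¹ * a⁻¹ := mul_inv_rev a b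
    _ = b * a := by
      rw [inv_eq_of_mul_eq_one_right (D.sq a ha), inv_eq_of_mul_eq_one_right (D.sq b hb)]

include D in
/-- An element carrying an involution of `E` into `E` normalises `E`. -/
theorem mem_normalizer_of_conj {g a : G} (ha : a ∈ E) (ha1 : a ≠ 1) (hga : g * a * g⁻¹ ∈ E) :
    g ∈ normalizer (E : Set G) := by
  obtain ⟨n, hn, e⟩ := D.trans a ha ha1 _ hga fun h => ha1 (conj_eq_one_iff.1 h)
  have h1 : n⁻¹ * g ∈ centralizer ({a} : Set G) := mem_centralizer_singleton_iff.2 (by
    calc n⁻¹ * g * a = n⁻¹ * (g * a * g⁻¹) * g := by group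
      _ = n⁻¹ * (n * a * n⁻¹) * g := by rw [e]
      _ = _ := by group)
  have h2 := mul_mem hn (D.big a ha ha1 h1)
  rwa [mul_inv_cancel_left] at h2

include D in
/-- Two points are not fixed by each other's group. -/
theorem not_mutual {g : G} (hg : g ∉ normalizer (E : Set G))
    (h1 : ∀ a ∈ E, a • (g : Pt E) = g) (h2 : ∀ a ∈ E, a • ((g⁻¹ : G) : Pt E) = ((g⁻¹ : G) : Pt E)) : False := by
  have hkey : ∀ b ∈ E, g * b * g⁻¹ ∈ centralizer (E : Set G) := by
    intro b hb
    have hc : g * b * g⁻¹ ∈ normalizer (E : Set G) := by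
      have := smul_mk_eq.1 (h2 b hb)
      rwa [inv_inv] at this
    refine mem_centralizer_iff.2 fun a ha => ?_
    set c := g * b * g⁻¹
    have hm1 : a * c * a⁻¹ * c⁻¹ ∈ E := by
      rw [show a * c * a⁻¹ * c⁻¹ = a * (c * a⁻¹ * c⁻¹) by group]
      exact mul_mem ha (conj_mem hc (inv_mem ha))
    have hm2 : g⁻¹ * (a * c * a⁻¹ * c⁻¹) * g ∈ E := by
      rw [show g⁻¹ * (a * c * a⁻¹ * c⁻¹) * g = (g⁻¹ * a * g) * b * (g⁻¹ * a * g)⁻¹ * b⁻¹ by
        simp only [c]; group]
      exact mul_mem (conj_mem (smul_mk_eq.1 (h1 a ha)) hb) (inv_mem hb)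
    by_contra hne
    refine hg (inv_mem_iff.1 (mem_normalizer_of_conj D hm1 (fun e => hne ?_) (by rwa [inv_inv])))
    rw [mul_inv_eq_one, mul_inv_eq_iff_eq_mul] at e
    exact e
  haveI : Nontrivial ↥E := Finite.one_lt_card_iff_nontrivial.1 (by rw [D.card]; norm_num)
  obtain ⟨⟨b, hb⟩, hb1⟩ := exists_ne (1 : ↥E)
  exact hg (mem_normalizer_of_conj D hb (fun e => hb1 (Subtype.ext e)) (D.cen (hkey b hb)))

/-- The points of a set fixed by `a`. -/
noncomputable def fixCount (B : Set (Pt E)) (a : G) : ℕ := {q | q ∈ B ∧ a • q = q}.ncard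

include D in
/-- Burnside's count. -/
theorem burnside (B : Set (Pt E)) (hB : ∀ a ∈ E, ∀ q ∈ B, a • q ∈ B) {c : ℕ}
    (hc : ∀ a ∈ E, a ≠ 1 → fixCount B a = c) : 16 ∣ B.ncard + 15 * c := by
  classical
  let M : SubMulAction ↥E (Pt E) := ⟨B, fun a q hq => hB a a.2 q hq⟩
  haveI : Fintype ↥E := Fintype.ofFinite _
  haveI : Fintype ↥M := Fintype.ofFinite _
  haveI : Fintype (Quotient (MulAction.orbitRel ↥E ↥M)) := Fintype.ofFinite _
  have h := sum_card_fixedBy_eq_card_orbits_mul_card_group ↥E ↥M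
  have hfix : ∀ a : ↥E, Fintype.card (fixedBy ↥M a) = fixCount B a := by
    intro a
    rw [fixCount, ← Nat.card_coe_set_eq, ← Nat.card_eq_fintype_card]
    exact Nat.card_congr
      { toFun := fun q => ⟨q.1.1, q.1.2, congrArg Subtype.val q.2⟩
        invFun := fun q => ⟨⟨q.1, q.2.1⟩, Subtype.ext q.2.2⟩
        left_inv := fun q => rfl
        right_inv := fun q => rfl }
  simp only [hfix] at h
  rw [← Finset.add_sum_erase _ _ (Finset.mem_univ (1 : ↥E)),
    Finset.sum_congr rfl (fun (a : ↥E) ha => hc a a.2 fun e => Finset.ne_of_mem_erase ha (Subtype.ext e)),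
    Finset.sum_const, Finset.card_erase_of_mem (Finset.mem_univ _), Finset.card_univ,
    ← Nat.card_eq_fintype_card (α := ↥E), D.card, smul_eq_mul] at h
  have h1 : fixCount B ((1 : ↥E) : G) = B.ncard := by simp [fixCount]
  rw [h1] at h
  exact ⟨_, h.trans (mul_comm _ _)⟩

include D in
/-- The fixed point count on an invariant set is the same for all involutions of `E`. -/
theorem fixCount_const {B : Set (Pt E)} (hB : ∀ n ∈ normalizer (E : Set G), ∀ q ∈ B, n • q ∈ B) {a b : G}
    (ha : a ∈ E) (ha1 : a ≠ 1) (hb : b ∈ E) (hb1 : b ≠ 1) : fixCount B a = fixCount B b := by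
  have key : ∀ {a b : G}, a ∈ E → a ≠ 1 → b ∈ E → b ≠ 1 → fixCount B a ≤ fixCount B b := by
    intro a b ha ha1 hb hb1
    obtain ⟨n, hn, e⟩ := D.trans a ha ha1 b hb hb1
    refine Set.ncard_le_ncard_of_injOn (fun q => n • q) (fun q hq => ⟨hB n hn q hq.1, ?_⟩)
      (fun p _ q _ h => MulAction.injective n h) (Set.toFinite _)
    show b • n • q = n • q
    rw [← e, ← mul_smul, inv_mul_cancel_right, mul_smul, hq.2]
  exact le_antisymm (key ha ha1 hb hb1) (key hb hb1 ha ha1)

theorem smul_base {a : G} (ha : a ∈ E) : a • p0 E = p0 E := smul_p0_eq.2 (le_normalizer ha)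

theorem ncard_preimage (B : Set (Pt E)) :
    (QuotientGroup.mk ⁻¹' B : Set G).ncard = Nat.card ↥(normalizer (E : Set G)) * B.ncard := by
  rw [← Nat.card_coe_set_eq, ← Nat.card_coe_set_eq,
    Nat.card_congr (QuotientGroup.preimageMkEquivSubgroupProdSet _ B), Nat.card_prod]

include D in
/-- `E` fixes only the base point. -/
theorem only_base {q : Pt E} (h : ∀ a ∈ E, a • q = q) : q = p0 E := by
  classical
  by_contra hq
  set N := normalizer (E : Set G)
  set F : Set (Pt E) := {r | (∀ a ∈ E, a • r = r) ∧ r ≠ p0 E} with hF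
  set B : Set (Pt E) := {r | ∃ g : G, (g : Pt E) ∈ F ∧ r = ((g⁻¹ : G) : Pt E)} with hBdef
  have hFN : ∀ n ∈ N, ∀ r ∈ F, n • r ∈ F := fun n hn r hr => ⟨fun a ha => by
    have hm := conj_mem (inv_mem hn) ha
    rw [inv_inv] at hm
    rw [← mul_smul, show a * n = n * (n⁻¹ * a * n) by group, mul_smul, hr.1 _ hm],
    fun e => hr.2 (MulAction.injective n (e.trans (smul_p0_eq.2 hn).symm))⟩
  have hBN : ∀ n ∈ N, ∀ r ∈ B, n • r ∈ B := by
    rintro n hn _ ⟨g, hg, rfl⟩
    refine ⟨g * n⁻¹, ?_, ?_⟩
    · rwa [show ((g * n⁻¹ : G) : Pt E) = g from QuotientGroup.eq.2 (by simpa using hn)]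
    · show ((n * g⁻¹ : G) : Pt E) = _
      rw [mul_inv_rev, inv_inv]
  have hnofix : ∀ r ∈ B, ¬ ∀ a ∈ E, a • r = r := by
    rintro _ ⟨g, hg, rfl⟩ hall
    exact not_mutual D (fun hn => hg.2 (by rw [← smul_p0]; exact smul_p0_eq.2 hn)) hg.1 hall
  have hpre : (QuotientGroup.mk ⁻¹' B : Set G) = (fun g : G => g⁻¹) '' (QuotientGroup.mk ⁻¹' F) := by
    ext x
    constructor
    · rintro ⟨g, hg, e⟩
      refine ⟨x⁻¹, ?_, inv_inv x⟩
      have hn : g * x ∈ N := by
        have := inv_mem (QuotientGroup.eq.1 e)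
        rwa [mul_inv_rev, inv_inv, inv_inv] at this
      show ((x⁻¹ : G) : Pt E) ∈ F
      rw [show ((x⁻¹ : G) : Pt E) = (g * x)⁻¹ • ((g : G) : Pt E) from
        (congrArg (fun y : G => (y : Pt E)) (by group) : ((x⁻¹ : G) : Pt E) = (((g * x)⁻¹ * g : G) : Pt E))]
      exact hFN _ (inv_mem hn) _ hg
    · rintro ⟨g, hg, rfl⟩; exact ⟨g, hg, rfl⟩
  have hcard : B.ncard = F.ncard := by
    have := congrArg Set.ncard hpre
    rw [Set.ncard_image_of_injective _ inv_injective, ncard_preimage, ncard_preimage] at this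
    exact Nat.eq_of_mul_eq_mul_left Nat.card_pos this
  have hFpos : 0 < F.ncard := (Set.ncard_pos (Set.toFinite _)).2 ⟨q, h, hq⟩
  have hle : B.ncard + F.ncard ≤ 31 := by
    rw [← Set.ncard_union_eq (Set.disjoint_left.2 fun r hr hr' => hnofix r hr hr'.1) (Set.toFinite _)
      (Set.toFinite _), ← card_pt D]
    exact (Set.ncard_le_ncard (Set.subset_univ _) (Set.toFinite _)).trans_eq (Set.ncard_univ _)
  haveI : Nontrivial ↥E := Finite.one_lt_card_iff_nontrivial.1 (by rw [D.card]; norm_num)
  obtain ⟨⟨a0, ha0⟩, ha01⟩ := exists_ne (1 : ↥E)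
  have ha1 : a0 ≠ 1 := fun e => ha01 (Subtype.ext e)
  have hb := burnside D B (fun a ha r hr => hBN a (le_normalizer ha) r hr) (c := fixCount B a0)
    fun a ha ha' => fixCount_const D hBN ha ha' ha0 ha1
  have hc : fixCount B a0 ≤ B.ncard := Set.ncard_le_ncard (fun r hr => hr.1) (Set.toFinite _)
  have heq : fixCount B a0 = B.ncard := by
    obtain ⟨k, hk⟩ := hb
    omega
  obtain ⟨r, hr⟩ := (Set.ncard_pos (Set.toFinite B)).1 (hcard ▸ hFpos)
  refine hnofix r hr fun a ha => ?_
  by_cases ha' : a = 1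
  · rw [ha', one_smul]
  have h1 : fixCount B a = B.ncard := (fixCount_const D hBN ha ha' ha0 ha1).trans heq
  have h2 : {x | x ∈ B ∧ a • x = x} = B :=
    Set.eq_of_subset_of_ncard_le (fun x hx => hx.1) h1.ge (Set.toFinite _)
  exact (h2.symm ▸ hr : r ∈ {x | x ∈ B ∧ a • x = x}).2

/-- The points other than the base. -/
abbrev rest (E : Subgroup G) : Set (Pt E) := {p0 E}ᶜ

include D in
theorem card_rest : (rest E).ncard = 30 := by
  rw [Set.ncard_compl, card_pt D, Set.ncard_singleton]

theorem smul_rest {n : G} (hn : n ∈ normalizer (E : Set G)) {q : Pt E} (hq : q ∈ rest E) : n • q ∈ rest E :=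
  fun e => hq (MulAction.injective n (e.trans (smul_p0_eq.2 hn).symm))

include D in
/-- Every involution of `E` fixes fourteen points besides the base. -/
theorem fixCount_rest {a : G} (ha : a ∈ E) (ha1 : a ≠ 1) : fixCount (rest E) a = 14 := by
  have hinv : ∀ n ∈ normalizer (E : Set G), ∀ q ∈ rest E, n • q ∈ rest E := fun n hn q hq => smul_rest hn hq
  obtain ⟨k, hk⟩ := burnside D (rest E) (fun b hb q hq => hinv b (le_normalizer hb) q hq)
    (c := fixCount (rest E) a) fun b hb hb' => fixCount_const D hinv hb hb' ha ha1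
  rw [card_rest D] at hk
  have hle : fixCount (rest E) a ≤ (rest E).ncard := Set.ncard_le_ncard (fun r hr => hr.1) (Set.toFinite _)
  have hne : fixCount (rest E) a ≠ (rest E).ncard := by
    intro e
    have hq : (rest E).Nonempty := by
      rw [← Set.ncard_pos (Set.toFinite _), card_rest D]; norm_num
    obtain ⟨q, hq⟩ := hq
    refine hq (only_base D fun b hb => ?_)
    by_cases hb' : b = 1
    · rw [hb', one_smul]
    have h1 : fixCount (rest E) b = (rest E).ncard := (fixCount_const D hinv hb hb' ha ha1).trans e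
    have h2 : {x | x ∈ rest E ∧ b • x = x} = rest E :=
      Set.eq_of_subset_of_ncard_le (fun x hx => hx.1) h1.ge (Set.toFinite _)
    exact (h2.symm ▸ hq : q ∈ {x | x ∈ rest E ∧ b • x = x}).2
  rw [card_rest D] at hle hne
  omega

/-- The stabiliser in `E` of a point. -/
abbrev st (q : Pt E) : Subgroup G := E ⊓ stabilizer G q

theorem mem_st {q : Pt E} {a : G} : a ∈ st q ↔ a ∈ E ∧ a • q = q := Iff.rfl

include D in
/-- The incidences between a subgroup of `E` and the other points. -/
theorem incidences (H : Subgroup G) (hH : H ≤ E) [Fintype (Pt E)] [DecidableEq (Pt E)] :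
    ∑ q ∈ Finset.univ.erase (p0 E), Nat.card ↥(H ⊓ stabilizer G q) = 30 + (Nat.card H - 1) * 14 := by
  classical
  haveI := Fintype.ofFinite G
  let s : Finset G := Finset.univ.filter (· ∈ H)
  let t : Finset (Pt E) := Finset.univ.erase (p0 E)
  have hs : s.card = Nat.card H := by
    rw [Nat.card_eq_fintype_card, Fintype.card_subtype]
  have hl : ∀ q ∈ t, Nat.card ↥(H ⊓ stabilizer G q) = (Finset.bipartiteBelow (fun a q => a • q = q) s q).card := by
    intro q _
    rw [Nat.card_eq_fintype_card, Fintype.card_subtype]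
    congr 1
    ext a
    simp [Finset.bipartiteBelow, s, mem_inf]
  have hr : ∀ a ∈ s, (Finset.bipartiteAbove (fun a q => a • q = q) t a).card = if a = 1 then 30 else 14 := by
    intro a ha
    have haE : a ∈ E := hH (Finset.mem_filter.1 ha).2
    have e : (Finset.bipartiteAbove (fun a q => a • q = q) t a).card = fixCount (rest E) a := by
      rw [fixCount, ← Set.ncard_coe_finset]
      congr 1
      ext q
      simp [Finset.bipartiteAbove, t]
    rw [e]
    split_ifs with h
    · subst h
      unfold fixCount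
      rw [show {q | q ∈ rest E ∧ (1 : G) • q = q} = rest E from Set.ext fun q => by simp]
      exact card_rest D
    · exact fixCount_rest D haE h
  rw [Finset.sum_congr rfl hl, ← Finset.sum_card_bipartiteAbove_eq_sum_card_bipartiteBelow,
    Finset.sum_congr rfl hr, ← Finset.add_sum_erase _ _ (show (1 : G) ∈ s by simp [s, one_mem]), if_pos rfl,
    Finset.sum_congr rfl (fun a ha => if_neg (Finset.ne_of_mem_erase ha)), Finset.sum_const,
    Finset.card_erase_of_mem (by simp [s, one_mem]), hs, smul_eq_mul]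

include D in
theorem card_st {q : Pt E} (hq : q ≠ p0 E) : Nat.card ↥(st q) = 8 := by
  classical
  haveI := Fintype.ofFinite (Pt E)
  have hsum := incidences D E le_rfl
  rw [D.card] at hsum
  have hle : ∀ r ∈ Finset.univ.erase (p0 E), Nat.card ↥(E ⊓ stabilizer G r) ≤ 8 := by
    intro r hr
    obtain ⟨i, hi, e⟩ := (Nat.dvd_prime_pow Nat.prime_two).1
      (show Nat.card ↥(E ⊓ stabilizer G r) ∣ 2 ^ 4 by
        rw [show (2 : ℕ) ^ 4 = 16 from rfl, ← D.card]; exact card_dvd_of_le inf_le_left)
    have hi4 : i ≠ 4 := fun h4 => Finset.ne_of_mem_erase hr (only_base D fun a ha => by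
      have he : E ⊓ stabilizer G r = E := eq_of_le_of_card_ge inf_le_left (by rw [e, h4, D.card]; norm_num)
      rw [← he] at ha
      exact ha.2)
    rw [e]
    calc 2 ^ i ≤ 2 ^ 3 := Nat.pow_le_pow_right (by norm_num) (by omega)
      _ = 8 := rfl
  have hn : (Finset.univ.erase (p0 E)).card = 30 := by
    rw [Finset.card_erase_of_mem (Finset.mem_univ _), Finset.card_univ, ← Nat.card_eq_fintype_card, card_pt D]
  refine (Finset.sum_eq_sum_iff_of_le hle).1 ?_ q (Finset.mem_erase.2 ⟨hq, Finset.mem_univ q⟩)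
  rw [hsum, Finset.sum_const, hn, smul_eq_mul]

include D in
theorem exists_move {q : Pt E} (hq : q ≠ p0 E) : ∃ a ∈ E, a • q ≠ q := by
  by_contra h
  push Not at h
  exact hq (only_base D h)

include D in
/-- Two elements moving a point multiply to one fixing it. -/
theorem mul_fix {q : Pt E} (hq : q ≠ p0 E) {a b : G} (ha : a ∈ E) (hb : b ∈ E) (ha' : a • q ≠ q)
    (hb' : b • q ≠ q) : (a * b) • q = q := by
  set S := (st q).subgroupOf E
  have hidx : S.index = 2 := by
    have h1 := S.card_mul_index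
    rw [Nat.card_congr (subgroupOfEquivOfLe inf_le_left).toEquiv, card_st D hq, D.card] at h1
    omega
  have := (mul_mem_iff_of_index_two hidx (a := ⟨a, ha⟩) (b := ⟨b, hb⟩)).2
    (iff_of_false (fun h => ha' (mem_subgroupOf.1 h).2) (fun h => hb' (mem_subgroupOf.1 h).2))
  exact (mem_subgroupOf.1 this).2

include D in
/-- A point with a bigger stabiliser is on the same pair. -/
theorem same_pair {q r : Pt E} (hq : q ≠ p0 E) (hr : r ≠ p0 E)
    (h : ∀ a ∈ E, a • q = q → a • r = r) : r = q ∨ ∀ a ∈ E, a • q ≠ q → a • q = r := by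
  classical
  haveI := Fintype.ofFinite (Pt E)
  have hH : Nat.card ↥(st q) = 8 := card_st D hq
  set H := st q
  let T : Finset (Pt E) := (Finset.univ.erase (p0 E)).filter fun x => H ≤ stabilizer G x
  have hcount : ∀ x ∈ Finset.univ.erase (p0 E),
      Nat.card ↥(H ⊓ stabilizer G x) = 4 + if x ∈ T then 4 else 0 := by
    intro x hx
    split_ifs with hxT
    · rw [inf_eq_left.2 (Finset.mem_filter.1 hxT).2, hH]
    · have hne : ¬ H ≤ stabilizer G x := fun hle => hxT (Finset.mem_filter.2 ⟨hx, hle⟩)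
      have hlt : Nat.card ↥(H ⊓ stabilizer G x) ≠ 8 := fun e =>
        hne (inf_eq_left.1 (eq_of_le_of_card_ge inf_le_left (by rw [e, hH])))
      have hd : Nat.card ↥(H ⊓ stabilizer G x) ∣ 8 := hH ▸ card_dvd_of_le inf_le_left
      have hge : 4 ≤ Nat.card ↥(H ⊓ stabilizer G x) := by
        have hS : ∀ y : Pt E, y ≠ p0 E → ((st y).subgroupOf E).index = 2 := fun y hy => by
          have h1 := ((st y).subgroupOf E).card_mul_index
          rw [Nat.card_congr (subgroupOfEquivOfLe inf_le_left).toEquiv, card_st D hy, D.card] at h1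
          omega
        have h2 := index_inf_le (H := (st q).subgroupOf E) (K := (st x).subgroupOf E)
        rw [hS q hq, hS x (Finset.ne_of_mem_erase hx)] at h2
        have e : (st q).subgroupOf E ⊓ (st x).subgroupOf E = (H ⊓ stabilizer G x).subgroupOf E := by
          ext a
          simp [mem_subgroupOf, H]
        rw [e] at h2
        have h3 := ((H ⊓ stabilizer G x).subgroupOf E).card_mul_index
        rw [Nat.card_congr (subgroupOfEquivOfLe (inf_le_left.trans inf_le_left)).toEquiv, D.card] at h3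
        nlinarith
      have : Nat.card ↥(H ⊓ stabilizer G x) ≤ 8 := Nat.le_of_dvd (by norm_num) hd
      interval_cases Nat.card ↥(H ⊓ stabilizer G x) <;> simp_all
  have hsum := incidences D H inf_le_left
  rw [hH, Finset.sum_congr rfl hcount, Finset.sum_add_distrib, Finset.sum_const,
    Finset.card_erase_of_mem (Finset.mem_univ _), Finset.card_univ, ← Nat.card_eq_fintype_card, card_pt D,
    Finset.sum_ite_mem, Finset.inter_eq_right.2 (Finset.filter_subset _ _), Finset.sum_const, smul_eq_mul,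
    smul_eq_mul] at hsum
  have hT2 : T.card = 2 := by simp only [T]; omega
  obtain ⟨a, ha, ha'⟩ := exists_move D hq
  have hqT : q ∈ T := Finset.mem_filter.2 ⟨Finset.mem_erase.2 ⟨hq, Finset.mem_univ q⟩, inf_le_right⟩
  have haT : a • q ∈ T := Finset.mem_filter.2
    ⟨Finset.mem_erase.2 ⟨fun e => smul_rest (le_normalizer ha) (show q ∈ rest E from hq) e, Finset.mem_univ _⟩,
      fun b hb => by
        show b • a • q = a • q
        rw [← mul_smul, comm D hb.1 ha, mul_smul, hb.2]⟩
  have hrT : r ∈ T := Finset.mem_filter.2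
    ⟨Finset.mem_erase.2 ⟨hr, Finset.mem_univ r⟩, fun b hb => h b hb.1 hb.2⟩
  have hTeq : ({q, a • q} : Finset (Pt E)) = T := Finset.eq_of_subset_of_card_le
    (by simp [Finset.insert_subset_iff, hqT, haT]) (by rw [hT2, Finset.card_pair ha'.symm])
  rw [← hTeq, Finset.mem_insert, Finset.mem_singleton] at hrT
  refine hrT.imp id fun e b hb hb' => ?_
  rw [e]
  have h1 := mul_fix D hq ha hb ha' hb'
  conv_rhs => rw [← h1]
  rw [← mul_smul, ← mul_assoc, D.sq a ha, one_mul]

end Cfsg.Agent.SLFiveTwo
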